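import Mathlib
import Groth.Prelude.Def_QFDual

set_option autoImplicit false
universe u
open TensorProduct

namespace Groth.Agent.H8.QFD

section Fac

variable (A B' : Type u) [CommRing A] [CommRing B'] [Algebra A B']

/-- elements `s` of `B'` whose multiplication map factors `A`-linearly through a finite free
module; in coordinates `s * x = ∑ ψ i x • y i`. -/
def FacSet : Set B' :=
  {s | ∃ (k : ℕ) (ψ : Fin k → Disc.Omega A B') (y : Fin k → B'),
    ∀ x : B', s * x = ∑ i, (ψ i).toLinearMap x • y i}

end Fac

section P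

variable {A B' : Type u} [CommRing A] [CommRing B'] [Algebra A B']

/-- If `B'` is a finitely presented `A`-module and `B'_q` is `A`-flat, some `s ∉ q` factors through a
finite free `A`-module. -/
theorem exists_mem_facSet_notMem [Module.FinitePresentation A B'] (q : Ideal B') [q.IsPrime]
    [Module.Flat A (Localization.AtPrime q)] : ∃ s ∈ FacSet A B', s ∉ q := by
  classical
  let L := Localization.AtPrime q
  let h₁ : B' →ₗ[A] L := (IsScalarTower.toAlgHom A B' L).toLinearMap
  obtain ⟨k, h₂, h₃, hh⟩ := Module.Flat.exists_factorization_of_finitePresentation h₁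
  obtain ⟨t, hint⟩ := IsLocalization.exist_integer_multiples q.primeCompl
    (Finset.univ : Finset (Fin k)) (fun i => h₃ (Finsupp.single i 1))
  have hint' : ∀ i, ∃ y' : B', algebraMap B' L y' = (t : B') • h₃ (Finsupp.single i 1) :=
    fun i => hint i (Finset.mem_univ i)
  choose y' hy' using hint'
  let ψ : Fin k → Disc.Omega A B' := fun i => ⟨(Finsupp.lapply i) ∘ₗ h₂⟩
  have hψ : ∀ i x, (ψ i).toLinearMap x = h₂ x i := fun i x => rfl
  have hkey : ∀ x : B', algebraMap B' L ((t : B') * x) =
      algebraMap B' L (∑ i, (ψ i).toLinearMap x • y' i) := by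
    intro x
    have hx : algebraMap B' L x = h₃ (h₂ x) := by
      have := congrArg (fun f => f x) hh
      exact this
    have hsum : h₂ x = ∑ i, (h₂ x i) • Finsupp.single i (1 : A) := by
      conv_lhs => rw [← Finsupp.univ_sum_single (h₂ x)]
      refine Finset.sum_congr rfl fun i _ => ?_
      rw [Finsupp.smul_single_one]
    rw [map_mul, hx, ← Algebra.smul_def]
    conv_lhs => rw [hsum]
    rw [map_sum, Finset.smul_sum, map_sum]
    refine Finset.sum_congr rfl fun i _ => ?_
    rw [map_smul, smul_comm, ← hy' i, hψ]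
    exact (map_smul (IsScalarTower.toAlgHom A B' L) (h₂ x i) (y' i)).symm
  have hD : ∀ x : B', ∃ u : q.primeCompl,
      (u : B') * ((t : B') * x - ∑ i, (ψ i).toLinearMap x • y' i) = 0 := by
    intro x
    have h0 : algebraMap B' L ((t : B') * x - ∑ i, (ψ i).toLinearMap x • y' i) = 0 := by
      rw [map_sub, hkey x, sub_self]
    exact (IsLocalization.map_eq_zero_iff q.primeCompl L _).mp h0
  haveI : Module.Finite A B' := inferInstance
  obtain ⟨n, g, hg⟩ := Module.Finite.exists_fin (R := A) (M := B')
  choose u hu using hD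
  let U : B' := ∏ j, (u (g j) : B')
  have hU : U ∈ q.primeCompl := Submonoid.prod_mem _ fun j _ => (u (g j)).2
  let Dm : B' →ₗ[A] B' := LinearMap.mulLeft A U ∘ₗ
    (LinearMap.mulLeft A (t : B') - ∑ i, (ψ i).toLinearMap.smulRight (y' i))
  have hDm : ∀ x, Dm x = U * ((t : B') * x - ∑ i, (ψ i).toLinearMap x • y' i) := by
    intro x
    simp [Dm, LinearMap.sum_apply]
  have hDm0 : Dm = 0 := by
    apply LinearMap.ext_on hg
    rintro _ ⟨j, rfl⟩
    rw [hDm, LinearMap.zero_apply]
    obtain ⟨c, hc⟩ := Finset.dvd_prod_of_mem (fun j => (u (g j) : B')) (Finset.mem_univ j)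
    change U = _ at hc
    rw [hc, mul_comm _ c, mul_assoc, hu (g j), mul_zero]
  refine ⟨U * (t : B'), ⟨k, ψ, fun i => U * y' i, fun x => ?_⟩, ?_⟩
  · have h1 := hDm x
    rw [hDm0, LinearMap.zero_apply, mul_sub, eq_comm, sub_eq_zero] at h1
    rw [mul_assoc, h1, Finset.mul_sum]
    refine Finset.sum_congr rfl fun i _ => ?_
    rw [mul_smul_comm]
  · exact (Submonoid.mul_mem _ hU t.2)

end P

section KeyId

variable {A B' : Type u} [CommRing A] [CommRing B'] [Algebra A B']

/-- `A`-module structure on `ω` through `A → B'`. -/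
@[reducible] noncomputable def modA : Module A (Disc.Omega A B') :=
  Module.compHom (Disc.Omega A B') (algebraMap A B')

attribute [local instance] modA

theorem isScalarTower_modA : IsScalarTower A B' (Disc.Omega A B') := ⟨fun a b w => by
  change (a • b) • w = algebraMap A B' a • (b • w)
  rw [Algebra.smul_def, mul_smul]⟩

attribute [local instance] isScalarTower_modA

theorem smulA_toLinearMap (r : A) (φ : Disc.Omega A B') (b : B') :
    (r • φ).toLinearMap b = r * φ.toLinearMap b := by
  change (algebraMap A B' r • φ).toLinearMap b = _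
  rw [Disc.Omega.smul_toLinearMap_apply, ← Algebra.smul_def, map_smul, smul_eq_mul]

/-- `toLinearMap` as an `A`-linear map. -/
noncomputable def toLin : Disc.Omega A B' →ₗ[A] (B' →ₗ[A] A) where
  toFun φ := φ.toLinearMap
  map_add' _ _ := rfl
  map_smul' r φ := by
    ext b
    simp [smulA_toLinearMap]

theorem sum_toLinearMap {ι : Type*} (s : Finset ι) (f : ι → Disc.Omega A B') :
    (∑ i ∈ s, f i).toLinearMap = ∑ i ∈ s, (f i).toLinearMap :=
  map_sum (toLin (A := A) (B' := B')) f s

variable (X : Type u) [AddCommGroup X] [Module A X]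

/-- evaluation `ω ⊗ X → Hom_A(B', X)`. -/
noncomputable def ev : Disc.Omega A B' ⊗[A] X →ₗ[A] (B' →ₗ[A] X) :=
  TensorProduct.lift (LinearMap.mk₂ A
    (fun (φ : Disc.Omega A B') (x : X) => φ.toLinearMap.smulRight x)
    (by
      intro φ φ' x; ext b
      rw [LinearMap.smulRight_apply, LinearMap.add_apply, LinearMap.smulRight_apply,
        LinearMap.smulRight_apply, Disc.Omega.add_toLinearMap, LinearMap.add_apply, add_smul])
    (by
      intro r φ x; ext b
      rw [LinearMap.smulRight_apply, LinearMap.smul_apply, LinearMap.smulRight_apply,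
        smulA_toLinearMap, mul_smul])
    (by
      intro φ x x'; ext b
      rw [LinearMap.smulRight_apply, LinearMap.add_apply, LinearMap.smulRight_apply,
        LinearMap.smulRight_apply, smul_add])
    (by
      intro r φ x; ext b
      rw [LinearMap.smulRight_apply, LinearMap.smul_apply, LinearMap.smulRight_apply, smul_comm]))

theorem ev_tmul (φ : Disc.Omega A B') (x : X) (b : B') :
    ev X (φ ⊗ₜ[A] x) b = φ.toLinearMap b • x := rfl

variable {X}

/-- the key identity. -/
theorem smul_eq_sum {s : B'} {k : ℕ} (ψ : Fin k → Disc.Omega A B') (y : Fin k → B')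
    (h : ∀ x : B', s * x = ∑ i, (ψ i).toLinearMap x • y i) (w : Disc.Omega A B' ⊗[A] X) :
    s • w = ∑ i, ψ i ⊗ₜ[A] (ev X w (y i)) := by
  induction w using TensorProduct.induction_on with
  | zero => simp
  | add a b ha hb =>
    rw [smul_add, ha, hb, ← Finset.sum_add_distrib]
    refine Finset.sum_congr rfl fun i _ => ?_
    rw [map_add, LinearMap.add_apply, tmul_add]
  | tmul φ x =>
    have hφ : s • φ = ∑ i, φ.toLinearMap (y i) • ψ i := by
      apply Disc.Omega.ext
      ext b
      rw [Disc.Omega.smul_toLinearMap_apply, h b, map_sum, sum_toLinearMap, LinearMap.sum_apply]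
      refine Finset.sum_congr rfl fun i _ => ?_
      rw [map_smul, smulA_toLinearMap, smul_eq_mul, mul_comm]
    rw [TensorProduct.smul_tmul', hφ, sum_tmul]
    refine Finset.sum_congr rfl fun i _ => ?_
    rw [ev_tmul, smul_tmul]

end KeyId

end Groth.Agent.H8.QFD
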