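import Mathlib
import Groth.Prelude.Def_QFDual
import Groth.Agent.Lib.Helper5.QFDual.OmegaFlatBC
import Groth.Agent.Lib.Helper8.QFD.A

set_option autoImplicit false
universe u
open TensorProduct

namespace Groth.Agent.H8.QFD

section LemmaL

variable {R S : Type*} [CommRing R] [CommRing S] [Algebra R S]
  {P P' : Type*} [AddCommGroup P] [Module R P] [AddCommGroup P'] [Module R P']

/-- a weak inverse of `β` for `s` killing kernel and cokernel. -/
theorem exists_weak_inverse (β : P →ₗ[R] P') (s : R)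
    (h1 : ∀ x, β x = 0 → s • x = 0) (h2 : ∀ y, ∃ x, β x = s • y) :
    ∃ τ : P' →ₗ[R] P, (∀ y, β (τ y) = s • s • y) ∧ (∀ x, τ (β x) = s • s • x) := by
  choose c hc using h2
  have hadd : ∀ y y', s • c (y + y') = s • c y + s • c y' := by
    intro y y'
    have : β (c (y + y') - c y - c y') = 0 := by
      rw [map_sub, map_sub, hc, hc, hc, smul_add]; abel
    have := h1 _ this
    rw [smul_sub, smul_sub, sub_sub, sub_eq_zero] at this
    exact this
  have hsmul : ∀ (r : R) y, s • c (r • y) = r • s • c y := by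
    intro r y
    have : β (c (r • y) - r • c y) = 0 := by
      rw [map_sub, map_smul, hc, hc, smul_comm, sub_self]
    have := h1 _ this
    rw [smul_sub, sub_eq_zero] at this
    rw [this, smul_comm]
  refine ⟨{ toFun := fun y => s • c y, map_add' := hadd, map_smul' := fun r y => hsmul r y }, ?_, ?_⟩
  · intro y
    change β (s • c y) = _
    rw [map_smul, hc]
  · intro x
    change s • c (β x) = _
    have : β (c (β x) - s • x) = 0 := by
      rw [map_sub, map_smul, hc, sub_self]
    have := h1 _ this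
    rw [smul_sub, sub_eq_zero] at this
    exact this

/-- Lemma L: base change of `β` is bijective if kernel and cokernel are killed by a set `𝔞` that
generates the unit ideal of `S`. -/
theorem baseChange_bijective_of_kills (β : P →ₗ[R] P') (𝔞 : Set R)
    (h1 : ∀ s ∈ 𝔞, ∀ x, β x = 0 → s • x = 0)
    (h2 : ∀ s ∈ 𝔞, ∀ y, ∃ x, β x = s • y)
    (h3 : ∀ Q : Ideal S, Q.IsPrime → ∃ s ∈ 𝔞, algebraMap R S s ∉ Q) :
    Function.Bijective (LinearMap.baseChange S β) := by
  have key : ∀ s ∈ 𝔞, ∃ τ' : S ⊗[R] P' →ₗ[S] S ⊗[R] P,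
      (∀ y, LinearMap.baseChange S β (τ' y) = (algebraMap R S s * algebraMap R S s) • y) ∧
      (∀ x, τ' (LinearMap.baseChange S β x) = (algebraMap R S s * algebraMap R S s) • x) := by
    intro s hs
    obtain ⟨τ, hτ1, hτ2⟩ := exists_weak_inverse β s (h1 s hs) (h2 s hs)
    refine ⟨LinearMap.baseChange S τ, ?_, ?_⟩
    · intro y
      induction y using TensorProduct.induction_on with
      | zero => simp
      | add a b ha hb => rw [map_add, map_add, ha, hb, smul_add]
      | tmul c y =>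
        rw [LinearMap.baseChange_tmul, LinearMap.baseChange_tmul, hτ1, smul_tmul', smul_eq_mul,
          tmul_smul, tmul_smul, smul_tmul', smul_tmul', Algebra.smul_def, Algebra.smul_def,
          ← mul_assoc]
    · intro x
      induction x using TensorProduct.induction_on with
      | zero => simp
      | add a b ha hb => rw [map_add, map_add, ha, hb, smul_add]
      | tmul c x =>
        rw [LinearMap.baseChange_tmul, LinearMap.baseChange_tmul, hτ2, smul_tmul', smul_eq_mul,
          tmul_smul, tmul_smul, smul_tmul', smul_tmul', Algebra.smul_def, Algebra.smul_def,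
          ← mul_assoc]
  have top_of : ∀ I : Ideal S, (∀ s ∈ 𝔞, algebraMap R S s * algebraMap R S s ∈ I) → I = ⊤ := by
    intro I hI
    by_contra hne
    obtain ⟨Q, hQ, hIQ⟩ := Ideal.exists_le_maximal I hne
    obtain ⟨s, hs, hsQ⟩ := h3 Q hQ.isPrime
    exact hsQ ((hQ.isPrime.mul_mem_iff_mem_or_mem.mp (hIQ (hI s hs))).elim id id)
  constructor
  · rw [injective_iff_map_eq_zero]
    intro z hz
    let I : Ideal S := LinearMap.ker (LinearMap.toSpanSingleton S (S ⊗[R] P) z)
    have hI : I = ⊤ := by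
      apply top_of
      intro s hs
      obtain ⟨τ', -, hτ2⟩ := key s hs
      change LinearMap.toSpanSingleton S (S ⊗[R] P) z _ = 0
      rw [LinearMap.toSpanSingleton_apply, ← hτ2, hz, map_zero]
    have h1I : (1 : S) ∈ I := by rw [hI]; trivial
    have : LinearMap.toSpanSingleton S (S ⊗[R] P) z 1 = 0 := h1I
    rwa [LinearMap.toSpanSingleton_apply, one_smul] at this
  · intro y
    let I : Ideal S := Submodule.comap (LinearMap.toSpanSingleton S (S ⊗[R] P') y)
      (LinearMap.range (LinearMap.baseChange S β))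
    have hI : I = ⊤ := by
      apply top_of
      intro s hs
      obtain ⟨τ', hτ1, -⟩ := key s hs
      change LinearMap.toSpanSingleton S (S ⊗[R] P') y _ ∈ LinearMap.range _
      rw [LinearMap.toSpanSingleton_apply, ← hτ1]
      exact ⟨_, rfl⟩
    have h1I : (1 : S) ∈ I := by rw [hI]; trivial
    have : LinearMap.toSpanSingleton S (S ⊗[R] P') y 1 ∈ LinearMap.range _ := h1I
    rwa [LinearMap.toSpanSingleton_apply, one_smul] at this

end LemmaL

section Theta

open QFDual

variable {A B' A₁ B'₁ : Type u} [CommRing A] [CommRing B'] [CommRing A₁] [CommRing B'₁]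
  [Algebra A B'] [Algebra A A₁] [Algebra B' B'₁] [Algebra A₁ B'₁] [Algebra A B'₁]
  [IsScalarTower A A₁ B'₁] [IsScalarTower A B' B'₁]

attribute [local instance] modA isScalarTower_modA

/-- `θ' : ω ⊗[A] A₁ → B'₁ ⊗[B'] ω`, `φ ⊗ a ↦ a ⊗ φ`. -/
noncomputable def θ' : Disc.Omega A B' ⊗[A] A₁ →ₗ[A] B'₁ ⊗[B'] Disc.Omega A B' :=
  TensorProduct.lift (LinearMap.mk₂ A
    (fun (φ : Disc.Omega A B') (a : A₁) => algebraMap A₁ B'₁ a ⊗ₜ[B'] φ)
    (fun φ φ' a => tmul_add _ _ _)
    (fun r φ a => by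
      change algebraMap A₁ B'₁ a ⊗ₜ[B'] (algebraMap A B' r • φ) = _
      rw [tmul_smul, smul_tmul', smul_tmul', algebraMap_smul])
    (fun φ a a' => by rw [map_add, add_tmul])
    (fun r φ a => by
      rw [smul_tmul', Algebra.smul_def, map_mul, ← IsScalarTower.algebraMap_apply,
        ← Algebra.smul_def]))

theorem θ'_tmul (φ : Disc.Omega A B') (a : A₁) :
    θ' (A₁ := A₁) (B'₁ := B'₁) (φ ⊗ₜ[A] a) = algebraMap A₁ B'₁ a ⊗ₜ[B'] φ := rfl

theorem θ'_surjective (h : Algebra.IsPushout A A₁ B' B'₁) :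
    Function.Surjective (θ' (A := A) (B' := B') (A₁ := A₁) (B'₁ := B'₁)) := by
  intro z
  induction z using TensorProduct.induction_on with
  | zero => exact ⟨0, map_zero _⟩
  | add x y hx hy =>
    obtain ⟨x', rfl⟩ := hx
    obtain ⟨y', rfl⟩ := hy
    exact ⟨x' + y', map_add _ _ _⟩
  | tmul b w =>
    induction b using h.out.inductionOn generalizing w with
    | zero => exact ⟨0, by rw [map_zero, zero_tmul]⟩
    | tmul b' =>
      refine ⟨(b' • w) ⊗ₜ (1 : A₁), ?_⟩
      rw [θ'_tmul, map_one]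
      change (1 : B'₁) ⊗ₜ[B'] (b' • w) = (IsScalarTower.toAlgHom A B' B'₁) b' ⊗ₜ[B'] w
      rw [tmul_smul, smul_tmul', IsScalarTower.coe_toAlgHom', Algebra.algebraMap_eq_smul_one]
    | smul a b hb =>
      obtain ⟨y, hy⟩ := hb w
      -- multiply the `A₁` component by `a`
      refine ⟨(LinearMap.lTensor (Disc.Omega A B') (LinearMap.mulLeft A a)) y, ?_⟩
      have : ∀ y : Disc.Omega A B' ⊗[A] A₁,
          θ' (A₁ := A₁) (B'₁ := B'₁) ((LinearMap.lTensor (Disc.Omega A B') (LinearMap.mulLeft A a)) y) =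
            a • θ' (A₁ := A₁) (B'₁ := B'₁) y := by
        intro y
        induction y using TensorProduct.induction_on with
        | zero => simp
        | add p q hp hq => rw [map_add, map_add, hp, hq, map_add, smul_add]
        | tmul φ c =>
          rw [LinearMap.lTensor_tmul, θ'_tmul, θ'_tmul, LinearMap.mulLeft_apply, map_mul,
            smul_tmul', Algebra.smul_def]
      rw [this, hy, smul_tmul']
    | add b c hb hc =>
      obtain ⟨y, hy⟩ := hb w
      obtain ⟨y', hy'⟩ := hc w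
      exact ⟨y + y', by rw [map_add, hy, hy', add_tmul]⟩

theorem θ'_smul (s : B') (w : Disc.Omega A B' ⊗[A] A₁) :
    θ' (A₁ := A₁) (B'₁ := B'₁) (s • w) = algebraMap B' B'₁ s • θ' (A₁ := A₁) (B'₁ := B'₁) w := by
  induction w using TensorProduct.induction_on with
  | zero => simp
  | add p q hp hq => rw [smul_add, map_add, hp, hq, map_add, smul_add]
  | tmul φ a =>
    rw [smul_tmul', θ'_tmul, θ'_tmul, tmul_smul, smul_tmul', smul_tmul', Algebra.smul_def,
      smul_eq_mul]

theorem Λ_θ'_apply (h : Algebra.IsPushout A A₁ B' B'₁) (w : Disc.Omega A B' ⊗[A] A₁) (b : B') :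
    (H5OmegaFlatBC.Λ h (θ' w)).toLinearMap (algebraMap B' B'₁ b) = ev A₁ w b := by
  induction w using TensorProduct.induction_on with
  | zero => simp
  | add p q hp hq =>
    rw [map_add, map_add, Disc.Omega.add_toLinearMap, LinearMap.add_apply, hp, hq, map_add,
      LinearMap.add_apply]
  | tmul φ a =>
    rw [θ'_tmul, H5OmegaFlatBC.Λ_tmul, Disc.Omega.smul_toLinearMap_apply, ← Algebra.smul_def,
      map_smul, bcFin_apply_algebraMap, ev_tmul, smul_eq_mul, Algebra.smul_def, mul_comm]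

/-- two elements of `ω₁` agreeing on the image of `B'` are equal. -/
theorem omega₁_ext (h : Algebra.IsPushout A A₁ B' B'₁) (φ₁ φ₂ : Disc.Omega A₁ B'₁)
    (he : ∀ b : B', φ₁.toLinearMap (algebraMap B' B'₁ b) = φ₂.toLinearMap (algebraMap B' B'₁ b)) :
    φ₁ = φ₂ := by
  apply Disc.Omega.ext
  exact h.out.algHom_ext _ _ fun x => he x

theorem Λ_kills_ker (h : Algebra.IsPushout A A₁ B' B'₁) {s : B'} (hs : s ∈ FacSet A B')
    (z : B'₁ ⊗[B'] Disc.Omega A B') (hz : H5OmegaFlatBC.Λ h z = 0) :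
    algebraMap B' B'₁ s • z = 0 := by
  obtain ⟨k, ψ, y, hy⟩ := hs
  obtain ⟨w, rfl⟩ := θ'_surjective h z
  rw [← θ'_smul, smul_eq_sum ψ y hy w]
  have : ∀ i, ev A₁ w (y i) = 0 := by
    intro i
    rw [← Λ_θ'_apply h w (y i), hz]
    rfl
  simp [this]

theorem Λ_range (h : Algebra.IsPushout A A₁ B' B'₁) {s : B'} (hs : s ∈ FacSet A B')
    (φ₁ : Disc.Omega A₁ B'₁) : ∃ z, H5OmegaFlatBC.Λ h z = algebraMap B' B'₁ s • φ₁ := by
  obtain ⟨k, ψ, y, hy⟩ := hs
  refine ⟨θ' (∑ i, ψ i ⊗ₜ[A] (φ₁.toLinearMap (algebraMap B' B'₁ (y i)))), ?_⟩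
  apply omega₁_ext h
  intro b
  rw [Λ_θ'_apply, map_sum, LinearMap.sum_apply, Disc.Omega.smul_toLinearMap_apply, ← map_mul, hy b,
    map_sum, map_sum]
  refine Finset.sum_congr rfl fun i _ => ?_
  rw [ev_tmul]
  have h1 : algebraMap B' B'₁ ((ψ i).toLinearMap b • y i) =
      (ψ i).toLinearMap b • algebraMap B' B'₁ (y i) :=
    map_smul (IsScalarTower.toAlgHom A B' B'₁) _ _
  rw [h1, LinearMap.map_smul_of_tower]

end Theta

end Groth.Agent.H8.QFD
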