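import Mathlib
import Groth.Prelude.Def_QFDual
import Groth.Agent.Lib.Helper5.QFDual.OmegaFlatBC
import Groth.Agent.Lib.Helper8.QFD.B

set_option autoImplicit false
universe u
open TensorProduct AlgebraicGeometry CategoryTheory

namespace Groth.Agent.H8.QFD

section OI

variable {R S : Type u} [CommRing R] [CommRing S]

/-- stalk maps of an open immersion of affine schemes are bijective. -/
theorem bijective_localRingHom_of_isOpenImmersion (f : R →+* S)
    (h : IsOpenImmersion (Spec.map (CommRingCat.ofHom f))) (q : Ideal S) [hq : q.IsPrime] :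
    Function.Bijective (Localization.localRingHom (q.comap f) q f rfl) := by
  haveI := h
  have h1 : IsIso ((Spec.map (CommRingCat.ofHom f)).stalkMap ⟨q, hq⟩) := inferInstance
  have h2 := ((MorphismProperty.isomorphisms CommRingCat).arrow_mk_iso_iff
    (Scheme.arrowStalkMapSpecIso (CommRingCat.ofHom f) ⟨q, hq⟩)).mp h1
  exact (ConcreteCategory.isIso_iff_bijective _).mp h2

end OI

section FlatStalk

variable {A B' B : Type u} [CommRing A] [CommRing B'] [CommRing B]
  [Algebra A B'] [Algebra B' B] [Algebra A B] [IsScalarTower A B' B]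

theorem flat_atPrime_comap_of_isOpenImmersion
    (hopen : IsOpenImmersion (Spec.map (CommRingCat.ofHom (algebraMap B' B)))) [Module.Flat A B]
    (q' : Ideal B) [q'.IsPrime] :
    Module.Flat A (Localization.AtPrime (q'.comap (algebraMap B' B))) := by
  have hbij := bijective_localRingHom_of_isOpenImmersion (algebraMap B' B) hopen q'
  let e₀ := RingEquiv.ofBijective _ hbij
  let e : Localization.AtPrime (q'.comap (algebraMap B' B)) ≃ₗ[A] Localization.AtPrime q' :=
    { e₀.toAddEquiv with
      map_smul' := fun a x => by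
        change Localization.localRingHom _ _ _ _ (a • x) = a • Localization.localRingHom _ _ _ _ x
        rw [Algebra.smul_def, map_mul, Algebra.smul_def]
        congr 1
        rw [IsScalarTower.algebraMap_apply A B' (Localization.AtPrime (q'.comap (algebraMap B' B))),
          Localization.localRingHom_to_map, ← IsScalarTower.algebraMap_apply,
          ← IsScalarTower.algebraMap_apply] }
  haveI : Module.Flat A (Localization.AtPrime q') := Module.Flat.trans A B _
  exact Module.Flat.of_linearEquiv e

end FlatStalk

section Main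

open QFDual

variable {A B' B A₁ B'₁ B₁ : Type u} [CommRing A] [CommRing B'] [CommRing B] [CommRing A₁]
  [CommRing B'₁] [CommRing B₁]
  [Algebra A B'] [Algebra B' B] [Algebra A B] [IsScalarTower A B' B]
  [Algebra A A₁] [Algebra B' B'₁] [Algebra A₁ B'₁] [Algebra A B'₁]
  [IsScalarTower A A₁ B'₁] [IsScalarTower A B' B'₁]
  [Algebra B B₁] [Algebra B'₁ B₁] [Algebra B' B₁] [IsScalarTower B' B'₁ B₁] [IsScalarTower B' B B₁]

/-- FacSet is not contained in the contraction of any prime of `B`. -/
theorem exists_facSet_notMem_comap [Module.FinitePresentation A B'] [Module.Flat A B]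
    (hopen : IsOpenImmersion (Spec.map (CommRingCat.ofHom (algebraMap B' B))))
    (q' : Ideal B) [q'.IsPrime] : ∃ s ∈ FacSet A B', algebraMap B' B s ∉ q' := by
  haveI := flat_atPrime_comap_of_isOpenImmersion (A := A) hopen q'
  obtain ⟨s, hs, hsq⟩ := exists_mem_facSet_notMem (A := A) (q'.comap (algebraMap B' B))
  exact ⟨s, hs, hsq⟩

/-- S8959: base change for flat quasi-finite maps. -/
theorem omegaBC_bijective_of_flat [Module.FinitePresentation A B'] [Module.Flat A B]
    (hopen : IsOpenImmersion (Spec.map (CommRingCat.ofHom (algebraMap B' B))))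
    (h : Algebra.IsPushout A A₁ B' B'₁) :
    Function.Bijective (omegaBC (B₁ := B₁) h) := by
  have hL := baseChange_bijective_of_kills (S := B₁) (H5OmegaFlatBC.Λ h)
    (algebraMap B' B'₁ '' FacSet A B')
    (by
      rintro _ ⟨s, hs, rfl⟩ z hz
      exact Λ_kills_ker h hs z hz)
    (by
      rintro _ ⟨s, hs, rfl⟩ φ₁
      exact Λ_range h hs φ₁)
    (by
      intro Q hQ
      haveI := hQ
      obtain ⟨s, hs, hsq⟩ := exists_facSet_notMem_comap (A := A) hopen (Q.comap (algebraMap B B₁))
      refine ⟨algebraMap B' B'₁ s, ⟨s, hs, rfl⟩, ?_⟩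
      rw [← IsScalarTower.algebraMap_apply, IsScalarTower.algebraMap_apply B' B B₁]
      exact hsq)
  let e1 := TensorProduct.AlgebraTensorModule.cancelBaseChange B' B'₁ B₁ B₁ (Disc.Omega A B')
  have heq : omegaBC (B₁ := B₁) h =
      (LinearMap.baseChange B₁ (H5OmegaFlatBC.Λ h)) ∘ₗ e1.symm.toLinearMap := by
    apply TensorProduct.AlgebraTensorModule.ext
    intro b₁ w
    rw [omegaBC_tmul]
    simp only [LinearMap.coe_comp, LinearEquiv.coe_coe, Function.comp_apply, e1,
      TensorProduct.AlgebraTensorModule.cancelBaseChange_symm_tmul, LinearMap.baseChange_tmul,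
      H5OmegaFlatBC.Λ_tmul, one_smul]
  rw [heq]
  exact hL.comp e1.symm.bijective

end Main

end Groth.Agent.H8.QFD
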