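import Mathlib
import Groth.Prelude.Def_QFDual
import Groth.Agent.Lib.Helper5.QFDual.OIBridge
import Groth.Agent.Lib.Helper8.QFD.C

set_option autoImplicit false
universe u
open TensorProduct AlgebraicGeometry CategoryTheory

namespace Groth.Agent.H8.QFD

section Flat

variable {A B' B : Type u} [CommRing A] [CommRing B'] [CommRing B]
  [Algebra A B'] [Algebra B' B] [Algebra A B] [IsScalarTower A B' B]

attribute [local instance] modA isScalarTower_modA

variable {N N' : Type u} [AddCommGroup N] [Module A N] [AddCommGroup N'] [Module A N']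

/-- `id ⊗ f : ω ⊗ N → ω ⊗ N'` as a `B'`-linear map. -/
noncomputable def gmap (f : N →ₗ[A] N') :
    Disc.Omega A B' ⊗[A] N →ₗ[B'] Disc.Omega A B' ⊗[A] N' :=
  TensorProduct.AlgebraTensorModule.map (LinearMap.id : Disc.Omega A B' →ₗ[B'] Disc.Omega A B') f

theorem gmap_tmul (f : N →ₗ[A] N') (φ : Disc.Omega A B') (n : N) :
    gmap (B' := B') f (φ ⊗ₜ[A] n) = φ ⊗ₜ[A] f n := rfl

theorem ev_gmap (f : N →ₗ[A] N') (w : Disc.Omega A B' ⊗[A] N) (b : B') :
    ev N' (gmap (B' := B') f w) b = f (ev N w b) := by
  induction w using TensorProduct.induction_on with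
  | zero => simp
  | add p q hp hq =>
    rw [map_add, map_add, LinearMap.add_apply, hp, hq, map_add, LinearMap.add_apply, map_add]
  | tmul φ n => rw [gmap_tmul, ev_tmul, ev_tmul, map_smul]

theorem kills_ker_gmap (f : N →ₗ[A] N') (hf : Function.Injective f) {s : B'}
    (hs : s ∈ FacSet A B') (w : Disc.Omega A B' ⊗[A] N) (hw : gmap (B' := B') f w = 0) :
    s • w = 0 := by
  obtain ⟨k, ψ, y, hy⟩ := hs
  rw [smul_eq_sum ψ y hy w]
  have : ∀ i, ev N w (y i) = 0 := by
    intro i
    apply hf
    rw [← ev_gmap, hw, map_zero, LinearMap.zero_apply, map_zero]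
  simp [this]

/-- S8944: `ω_{B/A}` is flat over `A` for a flat quasi-finite map. -/
theorem flat_omega [Module.FinitePresentation A B'] [Module.Flat A B]
    (hopen : IsOpenImmersion (Spec.map (CommRingCat.ofHom (algebraMap B' B)))) :
    Module.Flat A (B ⊗[B'] Disc.Omega A B') := by
  haveI : Module.Flat B' B := H5OIBridge.flat_of_isOpenImmersion hopen
  rw [Module.Flat.iff_lTensor_preserves_injective_linearMap]
  intro N N' _ _ _ _ f hf
  let eN := TensorProduct.AlgebraTensorModule.assoc A B' B B (Disc.Omega A B') N
  let eN' := TensorProduct.AlgebraTensorModule.assoc A B' B B (Disc.Omega A B') N'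
  let g := gmap (B' := B') f
  have hcomm : ∀ z, eN' (f.lTensor (B ⊗[B'] Disc.Omega A B') z) = (g.lTensor B) (eN z) := by
    intro z
    induction z using TensorProduct.induction_on with
    | zero => simp
    | add p q hp hq => rw [map_add, map_add, hp, hq, map_add, map_add]
    | tmul x n =>
      induction x using TensorProduct.induction_on with
      | zero => simp
      | add p q hp hq =>
        rw [add_tmul, map_add, map_add, hp, hq, map_add, map_add]
      | tmul b φ => rfl
  have hginj : Function.Injective (g.lTensor B) := by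
    rw [injective_iff_map_eq_zero]
    intro z hz
    have hex := Module.Flat.lTensor_exact B (LinearMap.exact_subtype_ker_map g)
    have hsub : ∀ w : B ⊗[B'] (LinearMap.ker g), w = 0 := by
      intro w
      induction w using TensorProduct.induction_on with
      | zero => rfl
      | add p q hp hq => rw [hp, hq, add_zero]
      | tmul c k =>
        let I : Ideal B := LinearMap.ker (LinearMap.toSpanSingleton B
          (B ⊗[B'] (LinearMap.ker g)) (c ⊗ₜ[B'] k))
        have hI : I = ⊤ := by
          by_contra hne
          obtain ⟨Q, hQ, hIQ⟩ := Ideal.exists_le_maximal I hne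
          haveI := hQ.isPrime
          obtain ⟨s, hs, hsQ⟩ := exists_facSet_notMem_comap (A := A) hopen Q
          apply hsQ
          apply hIQ
          change LinearMap.toSpanSingleton B _ (c ⊗ₜ[B'] k) (algebraMap B' B s) = 0
          rw [LinearMap.toSpanSingleton_apply, smul_tmul', smul_eq_mul, ← Algebra.smul_def,
            smul_tmul]
          have : s • k = 0 := by
            apply Subtype.ext
            exact kills_ker_gmap f hf hs k.1 k.2
          rw [this, tmul_zero]
        have h1I : (1 : B) ∈ I := by rw [hI]; trivial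
        have : LinearMap.toSpanSingleton B _ (c ⊗ₜ[B'] k) 1 = 0 := h1I
        rwa [LinearMap.toSpanSingleton_apply, one_smul] at this
    obtain ⟨w, rfl⟩ := (hex z).mp hz
    rw [hsub w, map_zero]
  rw [injective_iff_map_eq_zero]
  intro z hz
  have h1 := hcomm z
  rw [hz, map_zero] at h1
  have h2 := hginj (h1.symm.trans (map_zero _).symm)
  exact eN.injective (h2.trans (map_zero _).symm)

end Flat

end Groth.Agent.H8.QFD
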