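import Mathlib

set_option autoImplicit false
universe u
open TensorProduct

namespace Groth.Agent.H8.QFD

section Inv

variable {B : Type*} [CommRing B] {M : Type*} [AddCommGroup M] [Module B M]

/-- from a local generator `(m, t)` build a functional with `φ m = t * t` and `t * ..`. -/
theorem exists_functional {m : M} {t : B} (h1 : ∀ x : M, ∃ b : B, t • x = b • m)
    (h2 : ∀ b : B, b • m = 0 → t * b = 0) :
    ∃ φ : M →ₗ[B] B, φ m = t * t ∧ ∀ x, ∃ b, t • x = b • m ∧ φ x = t * b := by
  choose c hc using h1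
  have key : ∀ b b' : B, b • m = b' • m → t * b = t * b' := by
    intro b b' h
    have : (b - b') • m = 0 := by rw [sub_smul, h, sub_self]
    have := h2 _ this
    rwa [mul_sub, sub_eq_zero] at this
  refine ⟨{ toFun := fun x => t * c x, map_add' := ?_, map_smul' := ?_ }, ?_, ?_⟩
  · intro x y
    rw [← mul_add]
    apply key
    rw [← hc, add_smul, ← hc, ← hc, smul_add]
  · intro r x
    rw [RingHom.id_apply, smul_eq_mul, mul_left_comm]
    apply key
    rw [← hc, mul_smul, ← hc, smul_comm]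
  · change t * c m = t * t
    apply key
    rw [← hc]
  · intro x
    exact ⟨c x, hc x, rfl⟩

/-- INV': invertibility from local generators. -/
theorem invertible_of_local_generators
    (h : ∀ 𝔫 : Ideal B, 𝔫.IsMaximal → ∃ (m : M) (t : B), t ∉ 𝔫 ∧
      (∀ x : M, ∃ b : B, t • x = b • m) ∧ (∀ b : B, b • m = 0 → t * b = 0)) :
    Module.Invertible B M := by
  constructor
  constructor
  · -- injective
    rw [injective_iff_map_eq_zero]
    intro z hz
    let I : Ideal B := LinearMap.ker (LinearMap.toSpanSingleton B (Module.Dual B M ⊗[B] M) z)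
    have hI : I = ⊤ := by
      by_contra hne
      obtain ⟨𝔫, h𝔫, hI𝔫⟩ := Ideal.exists_le_maximal I hne
      obtain ⟨m, t, ht, h1, h2⟩ := h 𝔫 h𝔫
      obtain ⟨φ₀, hφ₀m, hφ₀⟩ := exists_functional h1 h2
      -- G : M^∨ ⊗ M → M^∨
      let G : Module.Dual B M ⊗[B] M →ₗ[B] Module.Dual B M :=
        TensorProduct.lift (LinearMap.mk₂ B (fun (φ : Module.Dual B M) (x : M) => φ₀ x • φ)
          (fun φ φ' x => smul_add _ _ _)
          (fun r φ x => smul_comm _ _ _)
          (fun φ x x' => by rw [map_add, add_smul])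
          (fun r φ x => by rw [map_smul, smul_eq_mul, mul_smul]))
      have hG : ∀ z : Module.Dual B M ⊗[B] M, (t * t) • z = G z ⊗ₜ[B] m := by
        intro z
        induction z using TensorProduct.induction_on with
        | zero => simp
        | add a b ha hb => rw [smul_add, ha, hb, map_add, add_tmul]
        | tmul φ x =>
          obtain ⟨b, hb, hφb⟩ := hφ₀ x
          change _ = (φ₀ x • φ) ⊗ₜ[B] m
          rw [hφb, mul_smul, smul_tmul', smul_tmul', smul_tmul, hb, ← smul_tmul, smul_smul,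
            mul_comm b t]
      have hGm : ∀ z : Module.Dual B M ⊗[B] M, G z m = (t * t) * contractLeft B M z := by
        intro z
        induction z using TensorProduct.induction_on with
        | zero => simp
        | add a b ha hb => rw [map_add, LinearMap.add_apply, ha, hb, map_add, mul_add]
        | tmul φ x =>
          obtain ⟨b, hb, hφb⟩ := hφ₀ x
          change (φ₀ x • φ) m = _
          rw [LinearMap.smul_apply, smul_eq_mul, contractLeft_apply, hφb]
          have : t * φ x = b * φ m := by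
            rw [← smul_eq_mul, ← map_smul, hb, map_smul, smul_eq_mul]
          rw [mul_assoc, mul_assoc, this]
      have hΦ : t • G z = 0 := by
        ext x
        obtain ⟨b, hb, -⟩ := hφ₀ x
        rw [LinearMap.smul_apply, smul_eq_mul, ← smul_eq_mul, ← map_smul, hb, map_smul, hGm, hz,
          mul_zero, smul_zero, LinearMap.zero_apply]
      have hmem : t * (t * t) ∈ I := by
        change LinearMap.toSpanSingleton B _ z (t * (t * t)) = 0
        rw [LinearMap.toSpanSingleton_apply, mul_smul, hG, smul_tmul', hΦ, zero_tmul]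
      have := hI𝔫 hmem
      rcases h𝔫.isPrime.mem_or_mem this with h' | h'
      · exact ht h'
      · rcases h𝔫.isPrime.mem_or_mem h' with h'' | h'' <;> exact ht h''
    have h1I : (1 : B) ∈ I := by rw [hI]; trivial
    have : LinearMap.toSpanSingleton B _ z 1 = 0 := h1I
    rwa [LinearMap.toSpanSingleton_apply, one_smul] at this
  · -- surjective
    have hI : LinearMap.range (contractLeft B M) = ⊤ := by
      by_contra hne
      obtain ⟨𝔫, h𝔫, hI𝔫⟩ := Ideal.exists_le_maximal (LinearMap.range (contractLeft B M)) hne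
      obtain ⟨m, t, ht, h1, h2⟩ := h 𝔫 h𝔫
      obtain ⟨φ₀, hφ₀m, -⟩ := exists_functional h1 h2
      have : t * t ∈ 𝔫 := hI𝔫 ⟨φ₀ ⊗ₜ m, by rw [contractLeft_apply, hφ₀m]⟩
      rcases h𝔫.isPrime.mem_or_mem this with h' | h' <;> exact ht h'
    exact LinearMap.range_eq_top.mp hI

/-- INV'': a finite flat module over a Noetherian ring whose residue fibres at all maximal ideals
are invertible (one-dimensional) is invertible. -/
theorem invertible_of_flat_of_residue [IsNoetherianRing B] [Module.Finite B M] [Module.Flat B M]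
    (h : ∀ (𝔫 : Ideal B) (_ : 𝔫.IsMaximal), Module.Invertible (B ⧸ 𝔫) ((B ⧸ 𝔫) ⊗[B] M)) :
    Module.Invertible B M := by
  apply invertible_of_local_generators
  intro 𝔫 h𝔫
  letI := Ideal.Quotient.field 𝔫
  haveI := h 𝔫 h𝔫
  have hfr : Module.finrank (B ⧸ 𝔫) ((B ⧸ 𝔫) ⊗[B] M) = 1 := Module.Invertible.finrank_eq_one _ _
  obtain ⟨v, hv0, hv⟩ := finrank_eq_one_iff'.mp hfr
  have hsurj : Function.Surjective (TensorProduct.mk B (B ⧸ 𝔫) M 1) :=
    TensorProduct.mk_surjective B M (B ⧸ 𝔫) Ideal.Quotient.mk_surjective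
  obtain ⟨m, rfl⟩ := hsurj v
  -- kernel of `M → (B/𝔫) ⊗ M`
  have hker : ∀ x : M, (1 : B ⧸ 𝔫) ⊗ₜ[B] x = 0 → x ∈ 𝔫 • (⊤ : Submodule B M) := by
    intro x hx
    have := congrArg (TensorProduct.quotTensorEquivQuotSMul M 𝔫) hx
    rw [map_zero] at this
    have h2 : TensorProduct.quotTensorEquivQuotSMul M 𝔫 ((1 : B ⧸ 𝔫) ⊗ₜ[B] x) =
        Submodule.Quotient.mk x := by
      rw [← map_one (Ideal.Quotient.mk 𝔫), TensorProduct.quotTensorEquivQuotSMul_mk_tmul, one_smul]
    rw [h2, Submodule.Quotient.mk_eq_zero] at this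
    exact this
  -- (1)
  have hsup : (⊤ : Submodule B M) ≤ Submodule.span B {m} ⊔ 𝔫 • (⊤ : Submodule B M) := by
    intro x _
    obtain ⟨c, hc⟩ := hv ((1 : B ⧸ 𝔫) ⊗ₜ[B] x)
    obtain ⟨b, rfl⟩ := Ideal.Quotient.mk_surjective c
    have h0 : (1 : B ⧸ 𝔫) ⊗ₜ[B] (x - b • m) = 0 := by
      rw [tmul_sub, ← hc, sub_eq_zero]
      change Ideal.Quotient.mk 𝔫 b • ((1 : B ⧸ 𝔫) ⊗ₜ[B] m) = _
      rw [smul_tmul', smul_eq_mul, mul_one, tmul_smul, smul_tmul', Algebra.smul_def, mul_one,
        Ideal.Quotient.algebraMap_eq]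
    have := hker _ h0
    have hx : x = b • m + (x - b • m) := by abel
    rw [hx]
    exact Submodule.add_mem_sup (Submodule.smul_mem _ _ (Submodule.mem_span_singleton_self m)) this
  obtain ⟨r, hr1, hr⟩ := Submodule.exists_sub_one_mem_and_smul_le_of_fg_of_le_sup
    (I := 𝔫) (N := Submodule.span B {m}) (N' := ⊤) (P := ⊤) Module.Finite.fg_top le_rfl hsup
  have hrn : r ∉ 𝔫 := by
    intro hrn
    have : (1 : B) ∈ 𝔫 := by
      have := 𝔫.sub_mem hrn hr1
      rwa [sub_sub_cancel] at this
    exact h𝔫.ne_top ((Ideal.eq_top_iff_one 𝔫).mpr this)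
  have hr' : ∀ x : M, ∃ b : B, r • x = b • m := by
    intro x
    have : r • x ∈ Submodule.span B {m} :=
      hr (Submodule.smul_mem_pointwise_smul x r ⊤ Submodule.mem_top)
    obtain ⟨b, hb⟩ := Submodule.mem_span_singleton.mp this
    exact ⟨b, hb.symm⟩
  -- the annihilator of `m`
  let K : Ideal B := LinearMap.ker (LinearMap.toSpanSingleton B M m)
  have hKmem : ∀ b, b ∈ K ↔ b • m = 0 := fun b => by
    change LinearMap.toSpanSingleton B M m b = 0 ↔ _
    rw [LinearMap.toSpanSingleton_apply]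
  have hK𝔫 : K ≤ 𝔫 := by
    intro b hb
    by_contra hbn
    apply hv0
    have hu : IsUnit (Ideal.Quotient.mk 𝔫 b) := by
      rw [isUnit_iff_ne_zero]
      intro h0
      exact hbn (Ideal.Quotient.eq_zero_iff_mem.mp h0)
    have : Ideal.Quotient.mk 𝔫 b • ((1 : B ⧸ 𝔫) ⊗ₜ[B] m) = 0 := by
      rw [smul_tmul', smul_eq_mul, mul_one]
      have : (Ideal.Quotient.mk 𝔫 b) ⊗ₜ[B] m = (1 : B ⧸ 𝔫) ⊗ₜ[B] (b • m) := by
        rw [tmul_smul, smul_tmul', Algebra.smul_def, mul_one, Ideal.Quotient.algebraMap_eq]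
      rw [this, (hKmem b).mp hb, tmul_zero]
    exact (hu.smul_eq_zero).mp this
  have hKK : K ≤ 𝔫 • K := by
    intro b hb
    have hbm := (hKmem b).mp hb
    -- equational criterion of flatness
    have hrel := Module.Flat.isTrivialRelation_of_sum_smul_eq_zero (R := B) (M := M)
      (ι := Unit) (f := fun _ => b) (x := fun _ => m) (by simpa using hbm)
    obtain ⟨κ, a, y, hxy, hfa⟩ := hrel
    have hm : m = ∑ j, a () j • y j := hxy ()
    have hba : ∀ j, b * a () j = 0 := by
      intro j
      have := hfa j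
      simpa using this
    choose c hc using fun j => hr' (y j)
    have h3 : r • m = ∑ j, (a () j * c j) • m := by
      conv_lhs => rw [hm]
      rw [Finset.smul_sum]
      refine Finset.sum_congr rfl fun j _ => ?_
      rw [smul_comm, hc j, mul_smul]
    have hk : (r - ∑ j, a () j * c j) ∈ K := by
      rw [hKmem, sub_smul, Finset.sum_smul, h3, sub_self]
    have hbr : r * b = (r - ∑ j, a () j * c j) * b := by
      rw [sub_mul, Finset.sum_mul]
      have : ∑ j, a () j * c j * b = 0 := by
        apply Finset.sum_eq_zero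
        intro j _
        rw [mul_assoc, mul_comm (c j) b, ← mul_assoc, mul_comm (a () j) b, hba j, zero_mul]
      rw [this, sub_zero]
    have h1 : r * b ∈ 𝔫 • K := by
      rw [hbr, mul_comm]
      exact Submodule.smul_mem_smul (hK𝔫 hb) hk
    have h2 : (1 - r) * b ∈ 𝔫 • K := by
      have : 1 - r ∈ 𝔫 := by
        have := 𝔫.neg_mem hr1
        rwa [neg_sub] at this
      exact Submodule.smul_mem_smul this hb
    have : b = r * b + (1 - r) * b := by ring
    rw [this]
    exact add_mem h1 h2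
  obtain ⟨v', hv'1, hv'⟩ := Submodule.exists_sub_one_mem_and_smul_eq_zero_of_fg_of_le_smul 𝔫 K
    (IsNoetherian.noetherian K) hKK
  have hv'n : v' ∉ 𝔫 := by
    intro hvn
    have : (1 : B) ∈ 𝔫 := by
      have := 𝔫.sub_mem hvn hv'1
      rwa [sub_sub_cancel] at this
    exact h𝔫.ne_top ((Ideal.eq_top_iff_one 𝔫).mpr this)
  refine ⟨m, r * v', ?_, ?_, ?_⟩
  · intro hmem
    rcases h𝔫.isPrime.mem_or_mem hmem with h' | h'
    · exact hrn h'
    · exact hv'n h'
  · intro x
    obtain ⟨b, hb⟩ := hr' x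
    exact ⟨v' * b, by rw [mul_comm r v', mul_smul, hb, mul_smul]⟩
  · intro b hb
    have := hv' b ((hKmem b).mpr hb)
    rw [smul_eq_mul] at this
    rw [mul_assoc, this, mul_zero]

end Inv

end Groth.Agent.H8.QFD
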