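import Mathlib
import Groth.Prelude.Def_QFDual
import Groth.Agent.Lib.Helper1.FibreFree
import Groth.Agent.Lib.Helper8.QFD.D
import Groth.Agent.Lib.Helper8.QFD.E

set_option autoImplicit false
universe u
open TensorProduct AlgebraicGeometry CategoryTheory

namespace Groth.Agent.H8.QFD

section Finite

variable {A B' : Type u} [CommRing A] [CommRing B'] [Algebra A B']

theorem finite_omega [IsNoetherianRing A] [Module.Finite A B'] :
    Module.Finite B' (Disc.Omega A B') := by
  letI := modA (A := A) (B' := B')
  haveI := isScalarTower_modA (A := A) (B' := B')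
  let e : Disc.Omega A B' ≃ₗ[A] (B' →ₗ[A] A) :=
    { toLin (A := A) (B' := B') with
      invFun := fun f => ⟨f⟩
      left_inv := fun _ => rfl
      right_inv := fun _ => rfl }
  haveI : Module.Finite A (B' →ₗ[A] A) := inferInstance
  haveI : Module.Finite A (Disc.Omega A B') := Module.Finite.equiv e.symm
  exact Module.Finite.of_restrictScalars_finite A B' _

end Finite

section Forward

open QFDual

variable {A B' B A₁ B'₁ B₁ : Type u} [CommRing A] [CommRing B'] [CommRing B] [CommRing A₁]
  [CommRing B'₁] [CommRing B₁]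
  [Algebra A B'] [Algebra B' B] [Algebra A B] [IsScalarTower A B' B]
  [Algebra A A₁] [Algebra B' B'₁] [Algebra A₁ B'₁] [Algebra A B'₁]
  [IsScalarTower A A₁ B'₁] [IsScalarTower A B' B'₁]
  [Algebra B B₁] [Algebra B'₁ B₁] [Algebra B' B₁] [IsScalarTower B' B'₁ B₁] [IsScalarTower B' B B₁]

/-- the base-change isomorphism `B₁ ⊗[B] ω_{B/A} ≃ ω_{B₁/A₁}`. -/
noncomputable def omegaEquiv [Module.FinitePresentation A B'] [Module.Flat A B]
    (hopen : IsOpenImmersion (Spec.map (CommRingCat.ofHom (algebraMap B' B))))
    (h : Algebra.IsPushout A A₁ B' B'₁) :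
    B₁ ⊗[B] (omega A B' B) ≃ₗ[B₁] omega A₁ B'₁ B₁ :=
  (TensorProduct.AlgebraTensorModule.cancelBaseChange B' B B₁ B₁ (Disc.Omega A B')).trans
    (LinearEquiv.ofBijective (omegaBC (B₁ := B₁) h) (omegaBC_bijective_of_flat hopen h))

theorem invertible_fibre_of_invertible [Module.FinitePresentation A B'] [Module.Flat A B]
    (hopen : IsOpenImmersion (Spec.map (CommRingCat.ofHom (algebraMap B' B))))
    (h : Algebra.IsPushout A A₁ B' B'₁) [Module.Invertible B (omega A B' B)] :
    Module.Invertible B₁ (omega A₁ B'₁ B₁) :=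
  Module.Invertible.congr (omegaEquiv (B₁ := B₁) hopen h)

end Forward

section Fibre

open QFDual

variable (A B' B : Type u) [CommRing A] [CommRing B'] [CommRing B]
  [Algebra A B'] [Algebra B' B] [Algebra A B] [IsScalarTower A B' B]
variable (p : Ideal A) [p.IsPrime]

attribute [local instance] Algebra.TensorProduct.rightAlgebra

/-- the algebra structure `B' ⊗ κ(p) → B ⊗ κ(p)`. -/
@[reducible] noncomputable def fibAlg :
    Algebra (B' ⊗[A] p.ResidueField) (B ⊗[A] p.ResidueField) :=
  (Algebra.TensorProduct.map (IsScalarTower.toAlgHom A B' B)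
    (AlgHom.id A p.ResidueField)).toRingHom.toAlgebra

attribute [local instance] fibAlg

theorem fibAlg_apply (x : B' ⊗[A] p.ResidueField) :
    algebraMap (B' ⊗[A] p.ResidueField) (B ⊗[A] p.ResidueField) x =
      Algebra.TensorProduct.map (IsScalarTower.toAlgHom A B' B) (AlgHom.id A p.ResidueField) x :=
  rfl

theorem fib_tower1 : IsScalarTower B' (B' ⊗[A] p.ResidueField) (B ⊗[A] p.ResidueField) :=
  IsScalarTower.of_algebraMap_eq fun x => by
    rw [fibAlg_apply, Algebra.TensorProduct.algebraMap_apply, Algebra.TensorProduct.algebraMap_apply,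
      Algebra.TensorProduct.map_tmul, map_one]
    rfl

theorem fib_tower2 :
    IsScalarTower p.ResidueField (B' ⊗[A] p.ResidueField) (B ⊗[A] p.ResidueField) :=
  IsScalarTower.of_algebraMap_eq fun x => by
    rw [fibAlg_apply, Algebra.TensorProduct.right_algebraMap_apply,
      Algebra.TensorProduct.right_algebraMap_apply, Algebra.TensorProduct.map_tmul, map_one]
    rfl

attribute [local instance] fib_tower1 fib_tower2

/-- the fibre presentation is a pushout. -/
theorem fib_pushout : Algebra.IsPushout A p.ResidueField B' (B' ⊗[A] p.ResidueField) :=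
  TensorProduct.isPushout'

variable {A B' B}

/-- **Fibre criterion**: `ω_{B/A}` is invertible if all fibre dualizing modules are. -/
theorem invertible_omega_of_fibres [IsNoetherianRing A] [IsNoetherianRing B] [Module.Finite A B']
    [Module.Flat A B]
    (hopen : IsOpenImmersion (Spec.map (CommRingCat.ofHom (algebraMap B' B))))
    (h : ∀ (p : Ideal A) [p.IsPrime], Module.Invertible (B ⊗[A] p.ResidueField)
      (omega p.ResidueField (B' ⊗[A] p.ResidueField) (B ⊗[A] p.ResidueField))) :
    Module.Invertible B (omega A B' B) := by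
  haveI : Module.FinitePresentation A B' := Module.finitePresentation_of_finite A B'
  haveI : Module.Finite B' (Disc.Omega A B') := finite_omega
  haveI : Module.Finite B (omega A B' B) := inferInstance
  haveI : Module.FinitePresentation B (omega A B' B) := Module.finitePresentation_of_finite B _
  haveI : Module.Flat A (omega A B' B) := flat_omega hopen
  -- invertibility of the base change to fibres
  have hfib : ∀ (p : Ideal A) [p.IsPrime], Module.Invertible (B ⊗[A] p.ResidueField)
      ((B ⊗[A] p.ResidueField) ⊗[B] (omega A B' B)) := by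
    intro p _
    haveI := h p
    exact Module.Invertible.congr
      (omegaEquiv (B₁ := B ⊗[A] p.ResidueField) hopen (fib_pushout A B' p)).symm
  haveI : Module.Flat B (omega A B' B) := by
    refine Groth.Agent.H1.FibreFree.flat_of_flat_fibres (A := A) fun p _ => ?_
    haveI := hfib p
    infer_instance
  apply invertible_of_flat_of_residue
  intro 𝔫 h𝔫
  letI := Ideal.Quotient.field 𝔫
  let p : Ideal A := 𝔫.comap (algebraMap A B)
  haveI : p.IsPrime := Ideal.comap_isPrime _ _
  haveI := hfib p
  have hker : p ≤ RingHom.ker (Algebra.ofId A (B ⧸ 𝔫)) := by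
    intro a ha
    rw [RingHom.mem_ker]
    change algebraMap A (B ⧸ 𝔫) a = 0
    rw [IsScalarTower.algebraMap_apply A B (B ⧸ 𝔫), Ideal.Quotient.algebraMap_eq,
      Ideal.Quotient.eq_zero_iff_mem]
    exact ha
  have hunit : p.primeCompl ≤ (IsUnit.submonoid (B ⧸ 𝔫)).comap (Algebra.ofId A (B ⧸ 𝔫)) := by
    intro a ha
    change IsUnit (algebraMap A (B ⧸ 𝔫) a)
    rw [isUnit_iff_ne_zero, IsScalarTower.algebraMap_apply A B (B ⧸ 𝔫), Ideal.Quotient.algebraMap_eq,
      Ne, Ideal.Quotient.eq_zero_iff_mem]
    exact ha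
  let χ : B ⊗[A] p.ResidueField →ₐ[A] B ⧸ 𝔫 :=
    Algebra.TensorProduct.productMap (Ideal.Quotient.mkₐ A 𝔫)
      (Ideal.ResidueField.liftₐ p (Algebra.ofId A (B ⧸ 𝔫)) hker hunit)
  letI : Algebra (B ⊗[A] p.ResidueField) (B ⧸ 𝔫) := χ.toRingHom.toAlgebra
  haveI : IsScalarTower B (B ⊗[A] p.ResidueField) (B ⧸ 𝔫) :=
    IsScalarTower.of_algebraMap_eq fun b => by
      change _ = χ (algebraMap B _ b)
      rw [Algebra.TensorProduct.algebraMap_apply, Algebra.TensorProduct.productMap_apply_tmul,
        map_one, mul_one]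
      rfl
  exact Module.Invertible.congr
    (TensorProduct.AlgebraTensorModule.cancelBaseChange B (B ⊗[A] p.ResidueField) (B ⧸ 𝔫) (B ⧸ 𝔫)
      (omega A B' B))

end Fibre

end Groth.Agent.H8.QFD
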