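import Mathlib
import Groth.Prelude.Def_QFDual
import Groth.Prelude.Def_CAlg
import Groth.Agent.Lib.Helper6.Bass2
import Groth.Agent.Lib.Helper8.QFD.C
import Groth.Agent.Lib.Helper8.QFD.E

set_option autoImplicit false
universe u
open TensorProduct AlgebraicGeometry CategoryTheory

namespace Groth.Agent.H8.QFD

section Unif

/-- uniform annihilator for a finitely generated ideal locally killed at a prime. -/
theorem exists_uniform_annihilator {T : Type*} [CommRing T] (P : Ideal T) [P.IsPrime]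
    (I : Ideal T) (hI : I.FG) (h : ∀ z ∈ I, ∃ u : T, u ∉ P ∧ u * z = 0) :
    ∃ u : T, u ∉ P ∧ ∀ z ∈ I, u * z = 0 := by
  classical
  obtain ⟨s, rfl⟩ := hI
  choose! u hu1 hu2 using h
  refine ⟨∏ g ∈ s, u g, ?_, ?_⟩
  · intro hmem
    obtain ⟨g, hg, hgP⟩ := (Ideal.IsPrime.prod_mem_iff).mp hmem
    exact hu1 g (Ideal.subset_span hg) hgP
  · intro z hz
    induction hz using Submodule.span_induction with
    | mem x hx =>
      obtain ⟨w, hw⟩ := Finset.dvd_prod_of_mem u hx
      rw [hw, mul_right_comm, hu2 x (Ideal.subset_span hx), zero_mul]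
    | zero => rw [mul_zero]
    | add x y _ _ hx hy => rw [mul_add, hx, hy, add_zero]
    | smul a x _ hx => rw [smul_eq_mul, mul_left_comm, hx, mul_zero]

end Unif

section Socle

variable {D : Type u} [CommRing D] [IsLocalRing D]

/-- in a self-injective local ring the socle is "one-dimensional". -/
theorem socle_mul (hinj : Module.Injective D D) {s₁ s₂ : D} (h1 : s₁ ≠ 0)
    (hs1 : ∀ a ∈ IsLocalRing.maximalIdeal D, a * s₁ = 0)
    (hs2 : ∀ a ∈ IsLocalRing.maximalIdeal D, a * s₂ = 0) : ∃ c : D, s₂ = c * s₁ := by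
  have hle1 : IsLocalRing.maximalIdeal D ≤ LinearMap.ker (LinearMap.toSpanSingleton D D s₁) := by
    intro a ha
    rw [LinearMap.mem_ker, LinearMap.toSpanSingleton_apply, smul_eq_mul]
    exact hs1 a ha
  have hle2 : IsLocalRing.maximalIdeal D ≤ LinearMap.ker (LinearMap.toSpanSingleton D D s₂) := by
    intro a ha
    rw [LinearMap.mem_ker, LinearMap.toSpanSingleton_apply, smul_eq_mul]
    exact hs2 a ha
  let ι : (D ⧸ IsLocalRing.maximalIdeal D) →ₗ[D] D :=
    Submodule.liftQ (IsLocalRing.maximalIdeal D) (LinearMap.toSpanSingleton D D s₁) hle1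
  let g : (D ⧸ IsLocalRing.maximalIdeal D) →ₗ[D] D :=
    Submodule.liftQ (IsLocalRing.maximalIdeal D) (LinearMap.toSpanSingleton D D s₂) hle2
  have hι : Function.Injective ι := by
    rw [← LinearMap.ker_eq_bot]
    apply Submodule.ker_liftQ_eq_bot
    intro a ha
    rw [LinearMap.mem_ker, LinearMap.toSpanSingleton_apply, smul_eq_mul] at ha
    by_contra hna
    have hu : IsUnit a := IsLocalRing.notMem_maximalIdeal.mp hna
    exact h1 (hu.mul_right_eq_zero.mp ha)
  obtain ⟨h, hh⟩ := hinj.out ι hι g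
  refine ⟨h 1, ?_⟩
  have h2 := hh (Submodule.Quotient.mk 1)
  have e1 : ι (Submodule.Quotient.mk 1) = s₁ := by
    change (Submodule.liftQ _ _ hle1) (Submodule.Quotient.mk 1) = s₁
    rw [Submodule.liftQ_apply, LinearMap.toSpanSingleton_apply, one_smul]
  have e2 : g (Submodule.Quotient.mk 1) = s₂ := by
    change (Submodule.liftQ _ _ hle2) (Submodule.Quotient.mk 1) = s₂
    rw [Submodule.liftQ_apply, LinearMap.toSpanSingleton_apply, one_smul]
  rw [e1, e2] at h2
  rw [← h2]
  have : h s₁ = h (s₁ • (1 : D)) := by rw [smul_eq_mul, mul_one]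
  rw [this, map_smul, smul_eq_mul, mul_comm]

/-- the socle of an Artinian local ring is essential. -/
theorem exists_socle [IsArtinianRing D] {x : D} (hx : x ≠ 0) :
    ∃ a : D, a * x ≠ 0 ∧ ∀ b ∈ IsLocalRing.maximalIdeal D, b * (a * x) = 0 := by
  classical
  have hnil : IsNilpotent (IsLocalRing.maximalIdeal D) := by
    have := IsArtinianRing.isNilpotent_jacobson_bot (R := D)
    rwa [IsLocalRing.jacobson_eq_maximalIdeal ⊥ bot_ne_top] at this
  obtain ⟨N, hN⟩ := hnil
  have hex : ∃ n, ∀ a ∈ (IsLocalRing.maximalIdeal D) ^ n, a * x = 0 := ⟨N, fun a ha => by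
    rw [hN] at ha
    have ha0 : a = 0 := by simpa using ha
    rw [ha0, zero_mul]⟩
  have hn0 : Nat.find hex ≠ 0 := by
    intro h0
    have h1 := Nat.find_spec hex
    rw [h0, pow_zero, Ideal.one_eq_top] at h1
    exact hx (by simpa using h1 1 Submodule.mem_top)
  obtain ⟨n', hn'⟩ := Nat.exists_eq_add_one_of_ne_zero hn0
  have hmin : ¬ ∀ a ∈ (IsLocalRing.maximalIdeal D) ^ n', a * x = 0 :=
    Nat.find_min hex (by omega)
  push_neg at hmin
  obtain ⟨a, ha, hax⟩ := hmin
  refine ⟨a, hax, fun b hb => ?_⟩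
  rw [← mul_assoc]
  apply Nat.find_spec hex
  rw [hn', pow_succ']
  exact Ideal.mul_mem_mul hb ha

/-- a finite-dimensional self-injective local algebra over a field is Frobenius. -/
theorem exists_frobenius {k : Type u} [Field k] [Algebra k D] [Module.Finite k D]
    (hinj : Module.Injective D D) :
    ∃ l : D →ₗ[k] k, (∀ c : D, (∀ x, l (c * x) = 0) → c = 0) ∧
      (∀ ψ : D →ₗ[k] k, ∃ c : D, ∀ x, ψ x = l (c * x)) := by
  haveI : IsArtinianRing D := IsArtinianRing.of_finite k D
  obtain ⟨a₀, ha₀, hs₀⟩ := exists_socle (x := (1 : D)) one_ne_zero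
  obtain ⟨l, hl⟩ : ∃ l : Module.Dual k D, l (a₀ * 1) ≠ 0 := by
    by_contra hcon
    push_neg at hcon
    exact ha₀ ((Module.forall_dual_apply_eq_zero_iff k (a₀ * 1)).mp hcon)
  have hinj' : ∀ c : D, (∀ x, l (c * x) = 0) → c = 0 := by
    intro c hc
    by_contra hne
    obtain ⟨a, hac, hsoc⟩ := exists_socle hne
    obtain ⟨c', hc'⟩ := socle_mul hinj hac hsoc hs₀
    apply hl
    rw [hc', show c' * (a * c) = c * (c' * a) by ring]
    exact hc _
  refine ⟨l, hinj', ?_⟩
  let Θ : D →ₗ[k] Module.Dual k D := (LinearMap.mul k D).compr₂ l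
  have hΘ : ∀ c x, Θ c x = l (c * x) := fun c x => by
    change ((LinearMap.mul k D).compr₂ l) c x = _
    rw [LinearMap.compr₂_apply, LinearMap.mul_apply']
  have hΘinj : Function.Injective Θ := by
    rw [injective_iff_map_eq_zero]
    intro c hc
    refine hinj' c (fun x => ?_)
    rw [← hΘ, hc, LinearMap.zero_apply]
  have hΘsurj : Function.Surjective Θ :=
    (LinearMap.injective_iff_surjective_of_finrank_eq_finrank
      (Subspace.dual_finrank_eq (K := k) (V := D)).symm).mp hΘinj
  intro ψ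
  obtain ⟨c, hc⟩ := hΘsurj ψ
  exact ⟨c, fun x => by rw [← hc, hΘ]⟩

end Socle

section Core

/-- Frobenius structure transported to a presentation `π : R ↠ D`. -/
theorem core {k R D : Type u} [Field k] [CommRing R] [Algebra k R] [Module.Finite k R]
    [CommRing D] [IsLocalRing D] (hinj : Module.Injective D D) (π : R →+* D)
    (hπ : Function.Surjective π) :
    ∃ l : R →ₗ[k] k, (∀ z, π z = 0 → l z = 0) ∧
      (∀ φ : R →ₗ[k] k, (∀ z, π z = 0 → φ z = 0) → ∃ c : R, ∀ x, φ x = l (c * x)) ∧
      (∀ c : R, (∀ x, l (c * x) = 0) → π c = 0) := by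
  letI : Algebra k D := (π.comp (algebraMap k R)).toAlgebra
  let πk : R →ₐ[k] D := { π with commutes' := fun _ => rfl }
  have hπk : ∀ x, πk x = π x := fun _ => rfl
  haveI : Module.Finite k D := Module.Finite.of_surjective πk.toLinearMap hπ
  obtain ⟨l, hl1, hl2⟩ := exists_frobenius (k := k) hinj
  refine ⟨l ∘ₗ πk.toLinearMap, ?_, ?_, ?_⟩
  · intro z hz
    change l (π z) = 0
    rw [hz, map_zero]
  · intro φ hφ
    obtain ⟨σ, hσ⟩ := LinearMap.exists_rightInverse_of_surjective πk.toLinearMap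
      (LinearMap.range_eq_top.mpr hπ)
    obtain ⟨d, hd⟩ := hl2 (φ ∘ₗ σ)
    obtain ⟨c, rfl⟩ := hπ d
    refine ⟨c, fun x => ?_⟩
    have h0 : π (σ (π x)) = π x := LinearMap.congr_fun hσ (π x)
    have h1 : φ (σ (π x)) = φ x := by
      have h2 : π (σ (π x) - x) = 0 := by rw [map_sub, sub_eq_zero]; exact h0
      have h3 := hφ _ h2
      rwa [map_sub, sub_eq_zero] at h3
    calc φ x = φ (σ (π x)) := h1.symm
      _ = l (π c * π x) := hd (π x)
      _ = l (π (c * x)) := by rw [RingHom.map_mul]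
  · intro c hc
    apply hl1
    intro y
    obtain ⟨x, rfl⟩ := hπ y
    rw [← map_mul]
    exact hc x

end Core

section Gor

/-- an Artinian Gorenstein local ring is self-injective. -/
theorem injective_self_of_gorenstein {D : Type u} [CommRing D]
    [hGL : LocCoh.IsGorensteinLocalRing D] [IsArtinianRing D] : Module.Injective D D := by
  obtain ⟨n, hn⟩ := hGL.exists_hasInjectiveDimensionLT
  have hd : ringKrullDim D = ((0 : ℕ) : WithBot ℕ∞) := by
    apply le_antisymm
    · exact Ring.krullDimLE_iff.mp inferInstance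
    · rw [Nat.cast_zero]
      exact ringKrullDim_nonneg_of_nontrivial
  have h1 := Groth.Agent.H6.Bass.hasInjectiveDimensionLT_of_gorenstein n hn 0 hd
  rw [zero_add] at h1
  haveI : CategoryTheory.Injective (ModuleCat.of D D) :=
    injective_iff_hasInjectiveDimensionLT_one.mpr h1
  exact Module.injective_module_of_injective_object D D

end Gor

end Groth.Agent.H8.QFD
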