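import Mathlib
import Groth.Prelude.Def_QFDual
import Groth.Prelude.Def_CAlg
import Groth.Agent.S1830
import Groth.Agent.Lib.Helper8.QFD.F
import Groth.Agent.Lib.Helper8.QFD.G

set_option autoImplicit false
universe u
open TensorProduct AlgebraicGeometry CategoryTheory

namespace Groth.Agent.H8.QFD

section LocGen

theorem exists_local_generator {k R S D : Type u} [Field k] [CommRing R] [CommRing S]
    [Algebra k R] [Module.Finite k R] [Algebra R S] [IsNoetherianRing S] (𝔫 : Ideal S)
    [𝔫.IsPrime] [CommRing D] [Algebra S D] [IsLocalization.AtPrime D 𝔫] [Algebra R D]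
    [IsScalarTower R S D] [IsLocalRing D]
    (hinj : Module.Injective D D) (hπ : Function.Surjective (algebraMap R D))
    (hker : ∀ z : R, algebraMap R D z = 0 →
      ∃ u : R, u ∉ 𝔫.comap (algebraMap R S) ∧ u * z = 0) :
    ∃ (m : S ⊗[R] Disc.Omega k R) (t : S), t ∉ 𝔫 ∧
      (∀ x : S ⊗[R] Disc.Omega k R, ∃ b : S, t • x = b • m) ∧
      (∀ b : S, b • m = 0 → t * b = 0) := by
  haveI : IsNoetherianRing R := IsNoetherianRing.of_finite k R
  haveI : (𝔫.comap (algebraMap R S)).IsPrime := Ideal.comap_isPrime _ _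
  obtain ⟨l, hl0, hl1, hl2⟩ := core (k := k) hinj (algebraMap R D) hπ
  obtain ⟨lΩ, rfl⟩ : ∃ lΩ : Disc.Omega k R, lΩ.toLinearMap = l := ⟨⟨l⟩, rfl⟩
  obtain ⟨e', he'𝔮, he'⟩ := exists_uniform_annihilator (𝔫.comap (algebraMap R S))
    (RingHom.ker (algebraMap R D)) (IsNoetherian.noetherian _)
    (fun z hz => hker z (RingHom.mem_ker.mp hz))
  have claimA : ∀ ω : Disc.Omega k R, ∃ c : R, e' • ω = c • lΩ := by
    intro ω
    obtain ⟨c, hc⟩ := hl1 (e' • ω).toLinearMap (by
      intro z hz
      rw [Disc.Omega.smul_toLinearMap_apply, he' z (RingHom.mem_ker.mpr hz), map_zero])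
    refine ⟨c, Disc.Omega.ext (LinearMap.ext fun x => ?_)⟩
    rw [hc x]
    rfl
  have uniq : ∀ c c' : R, c • lΩ = c' • lΩ → algebraMap R D c = algebraMap R D c' := by
    intro c c' h
    have h3 : algebraMap R D (c - c') = 0 := hl2 (c - c') (fun x => by
      have h4 : lΩ.toLinearMap (c * x) = lΩ.toLinearMap (c' * x) :=
        congrArg (fun ω : Disc.Omega k R => ω.toLinearMap x) h
      rw [sub_mul, map_sub, sub_eq_zero]
      exact h4)
    rwa [map_sub, sub_eq_zero] at h3
  choose cω hcω using claimA
  let ρ : Disc.Omega k R →ₗ[R] D :=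
    { toFun := fun ω => algebraMap R D (cω ω)
      map_add' := fun ω₁ ω₂ => by
        rw [← map_add]
        apply uniq
        rw [← hcω, add_smul, ← hcω, ← hcω, smul_add]
      map_smul' := fun r ω => by
        rw [RingHom.id_apply, Algebra.smul_def, ← map_mul]
        apply uniq
        rw [← hcω, mul_smul, ← hcω, smul_comm] }
  have hρl : ρ lΩ = algebraMap R D e' := uniq _ _ (hcω lΩ).symm
  have hunit : IsUnit (algebraMap R D e') := by
    rw [IsScalarTower.algebraMap_apply R S D]
    exact IsLocalization.map_units D (⟨algebraMap R S e', he'𝔮⟩ : 𝔫.primeCompl)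
  obtain ⟨m, hm⟩ : ∃ m : S ⊗[R] Disc.Omega k R, m = (1 : S) ⊗ₜ[R] lΩ := ⟨_, rfl⟩
  obtain ⟨t', ht'𝔫, ht'⟩ := exists_uniform_annihilator 𝔫
    (LinearMap.ker (LinearMap.toSpanSingleton S (S ⊗[R] Disc.Omega k R) m))
    (IsNoetherian.noetherian _) (by
      intro b hb
      rw [LinearMap.mem_ker, LinearMap.toSpanSingleton_apply] at hb
      have h1 : LinearMap.liftBaseChange S ρ (b • m) = 0 := by rw [hb, map_zero]
      rw [hm, TensorProduct.smul_tmul', smul_eq_mul, mul_one, LinearMap.liftBaseChange_tmul, hρl,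
        Algebra.smul_def] at h1
      have h2 : algebraMap S D b = 0 := hunit.mul_left_eq_zero.mp h1
      obtain ⟨u, hu⟩ := (IsLocalization.map_eq_zero_iff 𝔫.primeCompl D b).mp h2
      exact ⟨u.1, Ideal.mem_primeCompl_iff.mp u.2, hu⟩)
  refine ⟨m, algebraMap R S e' * t', ?_, ?_, ?_⟩
  · intro hmem
    rcases Ideal.IsPrime.mem_or_mem inferInstance hmem with h | h
    · exact he'𝔮 h
    · exact ht'𝔫 h
  · have key : ∀ x : S ⊗[R] Disc.Omega k R, ∃ b : S, algebraMap R S e' • x = b • m := by
      intro x
      induction x using TensorProduct.induction_on with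
      | zero => exact ⟨0, by rw [smul_zero, zero_smul]⟩
      | tmul s ω =>
        refine ⟨algebraMap R S (cω ω) * s, ?_⟩
        rw [hm, TensorProduct.smul_tmul', TensorProduct.smul_tmul', smul_eq_mul, smul_eq_mul,
          mul_one, ← Algebra.smul_def, ← Algebra.smul_def, TensorProduct.smul_tmul,
          TensorProduct.smul_tmul, hcω]
      | add x y hx hy =>
        obtain ⟨b₁, hb₁⟩ := hx
        obtain ⟨b₂, hb₂⟩ := hy
        exact ⟨b₁ + b₂, by rw [smul_add, hb₁, hb₂, add_smul]⟩
    intro x
    obtain ⟨b, hb⟩ := key x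
    refine ⟨t' * b, ?_⟩
    calc (algebraMap R S e' * t') • x = t' • (algebraMap R S e' • x) := by
          rw [smul_smul, mul_comm]
      _ = t' • (b • m) := by rw [hb]
      _ = (t' * b) • m := by rw [smul_smul]
  · intro b hb
    rw [mul_assoc, ht' b (by rw [LinearMap.mem_ker, LinearMap.toSpanSingleton_apply]; exact hb),
      mul_zero]

end LocGen

section Fibre

variable {k R S : Type u} [Field k] [CommRing R] [CommRing S] [Algebra k R]
  [Module.Finite k R] [Algebra R S]

/-- the dualizing module of a Gorenstein algebra, quasi-finite over a field, is invertible. -/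
theorem invertible_fibre
    (hopen : IsOpenImmersion (Spec.map (CommRingCat.ofHom (algebraMap R S))))
    [hG : LocCoh.IsGorensteinRing S] : Module.Invertible S (S ⊗[R] Disc.Omega k R) := by
  haveI : IsNoetherianRing S := inferInstance
  haveI : IsArtinianRing R := IsArtinianRing.of_finite k R
  apply invertible_of_local_generators
  intro 𝔫 h𝔫
  haveI : 𝔫.IsPrime := h𝔫.isPrime
  haveI : (𝔫.comap (algebraMap R S)).IsPrime := Ideal.comap_isPrime _ _
  haveI hGL : LocCoh.IsGorensteinLocalRing (Localization.AtPrime 𝔫) :=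
    hG.isGorensteinLocalRing_localization 𝔫
  have hbij := bijective_localRingHom_of_isOpenImmersion (algebraMap R S) hopen 𝔫
  have hπ_eq : ∀ r : R, algebraMap R (Localization.AtPrime 𝔫) r =
      Localization.localRingHom (𝔫.comap (algebraMap R S)) 𝔫 (algebraMap R S) rfl
        (algebraMap R (Localization.AtPrime (𝔫.comap (algebraMap R S))) r) := by
    intro r
    rw [Localization.localRingHom_to_map]
    exact IsScalarTower.algebraMap_apply R S (Localization.AtPrime 𝔫) r
  have hπ : Function.Surjective (algebraMap R (Localization.AtPrime 𝔫)) := by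
    intro d
    obtain ⟨y, rfl⟩ := hbij.2 d
    obtain ⟨r, rfl⟩ := IsArtinianRing.localization_surjective
      (𝔫.comap (algebraMap R S)).primeCompl (Localization.AtPrime (𝔫.comap (algebraMap R S))) y
    exact ⟨r, hπ_eq r⟩
  haveI : IsArtinianRing (Localization.AtPrime 𝔫) := hπ.isArtinianRing
  have hinj : Module.Injective (Localization.AtPrime 𝔫) (Localization.AtPrime 𝔫) :=
    injective_self_of_gorenstein
  exact exists_local_generator (k := k) 𝔫 hinj hπ (fun z hz => by
    rw [hπ_eq] at hz
    have hz' : algebraMap R (Localization.AtPrime (𝔫.comap (algebraMap R S))) z = 0 :=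
      hbij.1 (by rw [hz, map_zero])
    obtain ⟨u, hu⟩ :=
      (IsLocalization.map_eq_zero_iff (𝔫.comap (algebraMap R S)).primeCompl _ z).mp hz'
    exact ⟨u.1, Ideal.mem_primeCompl_iff.mp u.2, hu⟩)

end Fibre

section Assembly

open QFDual

attribute [local instance] Algebra.TensorProduct.rightAlgebra
attribute [local instance] fibAlg fib_tower1 fib_tower2

theorem isOpenImmersion_fibre (A B' B : Type u) [CommRing A] [CommRing B'] [CommRing B]
    [Algebra A B'] [Algebra B' B] [Algebra A B] [IsScalarTower A B' B] (p : Ideal A) [p.IsPrime]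
    (hopen : IsOpenImmersion (Spec.map (CommRingCat.ofHom (algebraMap B' B)))) :
    IsOpenImmersion (Spec.map (CommRingCat.ofHom
      (algebraMap (B' ⊗[A] p.ResidueField) (B ⊗[A] p.ResidueField)))) := by
  have H : (algebraMap (B' ⊗[A] p.ResidueField) (B ⊗[A] p.ResidueField)).comp
      (Algebra.TensorProduct.includeRight : p.ResidueField →ₐ[A] B' ⊗[A] p.ResidueField).toRingHom =
      (Algebra.TensorProduct.includeRight : p.ResidueField →ₐ[A] B ⊗[A] p.ResidueField).toRingHom := by
    refine RingHom.ext fun x => ?_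
    change Algebra.TensorProduct.map (IsScalarTower.toAlgHom A B' B) (AlgHom.id A p.ResidueField)
      ((1 : B') ⊗ₜ[A] x) = (1 : B) ⊗ₜ[A] x
    rw [Algebra.TensorProduct.map_tmul, map_one]
    rfl
  haveI : Algebra.IsPushout B' B (B' ⊗[A] p.ResidueField) (B ⊗[A] p.ResidueField) :=
    Algebra.IsPushout.tensorProduct_tensorProduct A p.ResidueField B' B H
  have sq := CommRingCat.isPushout_of_isPushout B' B (B' ⊗[A] p.ResidueField)
    (B ⊗[A] p.ResidueField)
  have pb := isPullback_SpecMap_of_isPushout _ _ _ _ sq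
  exact MorphismProperty.of_isPullback (P := @IsOpenImmersion) pb hopen

theorem finite_fibre (A B' : Type u) [CommRing A] [CommRing B'] [Algebra A B']
    [Module.Finite A B'] (p : Ideal A) [p.IsPrime] :
    Module.Finite p.ResidueField (B' ⊗[A] p.ResidueField) := by
  haveI : Module.Finite p.ResidueField (p.ResidueField ⊗[A] B') := inferInstance
  exact Module.Finite.equiv (fib_pushout A B' p).out.equiv

/-- **S8964 core**: flat + lci + quasi-finite factorization ⇒ `ω_{B/A}` invertible. -/
theorem invertible_omega_of_flat_lci {A B' B : Type u} [CommRing A] [CommRing B'] [CommRing B]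
    [IsNoetherianRing A] [Algebra A B'] [Algebra B' B] [Algebra A B] [IsScalarTower A B' B]
    [Module.Finite A B'] [Module.Flat A B]
    (hopen : IsOpenImmersion (Spec.map (CommRingCat.ofHom (algebraMap B' B))))
    (hl : LCI.IsLCI A B) : Module.Invertible B (omega A B' B) := by
  haveI : Algebra.FiniteType A B := hl.1
  haveI : IsNoetherianRing B := Algebra.FiniteType.isNoetherianRing A B
  refine invertible_omega_of_fibres hopen (fun p _ => ?_)
  haveI : LocCoh.IsGorensteinRing (B ⊗[A] p.ResidueField) :=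
    Groth.Agent.S1830.result A B hl ⟨p, inferInstance⟩
  haveI := finite_fibre A B' p
  exact invertible_fibre (k := p.ResidueField) (isOpenImmersion_fibre A B' B p hopen)

end Assembly

end Groth.Agent.H8.QFD
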