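import Mathlib
import Groth.Prelude.Def_QFDual
import Groth.Prelude.Def_CAlg
import Groth.Agent.H4.GL2
import Groth.Agent.Lib.Helper6.GorGlobal
import Groth.Agent.Lib.Helper8.QFD.H

set_option autoImplicit false
universe u
open TensorProduct AlgebraicGeometry CategoryTheory

namespace Groth.Agent.H8.QFD

section Transfer

/-- Gorenstein rings are invariant under ring isomorphisms. -/
theorem isGorensteinRing_of_ringEquiv {C C' : Type u} [CommRing C] [CommRing C'] (e : C ≃+* C')
    (h : LocCoh.IsGorensteinRing C) : LocCoh.IsGorensteinRing C' := by
  haveI := h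
  haveI : IsNoetherianRing C := inferInstance
  haveI : IsNoetherianRing C' := isNoetherianRing_of_ringEquiv C e
  refine { isGorensteinLocalRing_localization := fun q' _ => ?_ }
  haveI : (q'.comap (e : C →+* C')).IsPrime := Ideal.comap_isPrime _ _
  have hG := h.isGorensteinLocalRing_localization (q'.comap (e : C →+* C'))
  have H : (q'.comap (e : C →+* C')).primeCompl.map e.toMonoidHom = q'.primeCompl := by
    ext x
    constructor
    · rintro ⟨y, hy, rfl⟩
      exact hy
    · intro hx
      refine ⟨e.symm x, ?_, e.apply_symm_apply x⟩
      change ¬ (e (e.symm x) ∈ q')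
      rw [e.apply_symm_apply]
      exact hx
  exact Groth.Agent.H4.GL2.isGorensteinLocalRing_of_ringEquiv
    (IsLocalization.ringEquivOfRingEquiv (Localization.AtPrime (q'.comap (e : C →+* C')))
      (Localization.AtPrime q') e H) hG

end Transfer

section Inj

theorem injective_of_linearEquiv {R M N : Type u} [CommRing R] [AddCommGroup M] [AddCommGroup N]
    [Module R M] [Module R N] (e : M ≃ₗ[R] N) (h : Module.Injective R M) :
    Module.Injective R N := by
  constructor
  intro X Y _ _ _ _ ι hι g
  obtain ⟨h', hh'⟩ := h.out ι hι (e.symm.toLinearMap ∘ₗ g)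
  refine ⟨e.toLinearMap ∘ₗ h', fun x => ?_⟩
  rw [LinearMap.comp_apply, hh' x, LinearMap.comp_apply]
  exact e.apply_symm_apply (g x)

/-- `Hom_k(C, k)` is an injective `C`-module. -/
theorem injective_omega (k C : Type u) [Field k] [CommRing C] [Algebra k C] :
    Module.Injective C (Disc.Omega k C) := by
  constructor
  intro X Y _ _ _ _ ι hι g
  letI : Module k X := Module.compHom X (algebraMap k C)
  letI : Module k Y := Module.compHom Y (algebraMap k C)
  haveI : IsScalarTower k C X := IsScalarTower.of_algebraMap_smul fun _ _ => rfl
  haveI : IsScalarTower k C Y := IsScalarTower.of_algebraMap_smul fun _ _ => rfl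
  obtain ⟨r, hr⟩ := LinearMap.exists_leftInverse_of_injective (ι.restrictScalars k)
    (LinearMap.ker_eq_bot.mpr (show Function.Injective (ι.restrictScalars k) from hι))
  let g₀ : X →ₗ[k] k :=
    { toFun := fun x => (g x).toLinearMap 1
      map_add' := fun x y => by rw [map_add, Disc.Omega.add_toLinearMap, LinearMap.add_apply]
      map_smul' := fun a x => by
        have e1 : a • x = (algebraMap k C a) • x := rfl
        rw [RingHom.id_apply, e1, map_smul, Disc.Omega.smul_toLinearMap_apply, ← Algebra.smul_def,
          map_smul] }
  have hrι : ∀ x, r (ι x) = x := fun x => LinearMap.congr_fun hr x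
  let hfun : Y → Disc.Omega k C := fun y =>
    ⟨{ toFun := fun c => g₀ (r (c • y))
       map_add' := fun c c' => by rw [add_smul, map_add, map_add]
       map_smul' := fun a c => by rw [RingHom.id_apply, smul_assoc, map_smul, map_smul] }⟩
  have hfun_apply : ∀ y c, (hfun y).toLinearMap c = g₀ (r (c • y)) := fun _ _ => rfl
  let h : Y →ₗ[C] Disc.Omega k C :=
    { toFun := hfun
      map_add' := fun y y' => Disc.Omega.ext (LinearMap.ext fun c => by
        rw [Disc.Omega.add_toLinearMap, LinearMap.add_apply, hfun_apply, hfun_apply, hfun_apply,
          smul_add, map_add, map_add])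
      map_smul' := fun c' y => Disc.Omega.ext (LinearMap.ext fun c => by
        rw [RingHom.id_apply, Disc.Omega.smul_toLinearMap_apply, hfun_apply, hfun_apply, smul_smul,
          mul_comm]) }
  refine ⟨h, fun x => Disc.Omega.ext (LinearMap.ext fun c => ?_)⟩
  change g₀ (r (c • ι x)) = (g x).toLinearMap c
  rw [← ι.map_smul c x, hrι]
  change (g (c • x)).toLinearMap 1 = _
  rw [g.map_smul, Disc.Omega.smul_toLinearMap_apply, mul_one]

/-- a finite algebra over a field whose dualizing module is invertible is Gorenstein. -/
theorem gorenstein_of_invertible_omega {k C : Type u} [Field k] [CommRing C] [Algebra k C]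
    [Module.Finite k C] [Module.Invertible C (Disc.Omega k C)] : LocCoh.IsGorensteinRing C := by
  haveI : IsArtinianRing C := IsArtinianRing.of_finite k C
  haveI : IsNoetherianRing C := IsNoetherianRing.of_finite k C
  haveI : Module.Free C (Disc.Omega k C) := inferInstance
  obtain ⟨e⟩ := Module.Invertible.free_iff_linearEquiv.mp
    (inferInstance : Module.Free C (Disc.Omega k C))
  haveI hinj : Module.Injective C C := injective_of_linearEquiv e (injective_omega k C)
  haveI : CategoryTheory.Injective (ModuleCat.of C C) :=
    Module.injective_object_of_injective_module C C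
  have h1 : HasInjectiveDimensionLT (ModuleCat.of C C) 1 :=
    injective_iff_hasInjectiveDimensionLT_one.mp inferInstance
  exact (Groth.Agent.H6.Bass.finite_injdim_self_iff.mp ⟨1, h1⟩).1

end Inj

section General

open QFDual
attribute [local instance] Algebra.TensorProduct.rightAlgebra
attribute [local instance] fibAlg fib_tower1 fib_tower2

/-- quasi-finite flat with Gorenstein fibres ⇒ `ω_{B/A}` invertible. -/
theorem invertible_omega_of_gorenstein_fibres {A B' B : Type u} [CommRing A] [CommRing B']
    [CommRing B] [IsNoetherianRing A] [IsNoetherianRing B] [Algebra A B'] [Algebra B' B]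
    [Algebra A B] [IsScalarTower A B' B] [Module.Finite A B'] [Module.Flat A B]
    (hopen : IsOpenImmersion (Spec.map (CommRingCat.ofHom (algebraMap B' B))))
    (hG : ∀ (p : Ideal A) [p.IsPrime], LocCoh.IsGorensteinRing (B ⊗[A] p.ResidueField)) :
    Module.Invertible B (omega A B' B) := by
  refine invertible_omega_of_fibres hopen (fun p _ => ?_)
  haveI := hG p
  haveI := finite_fibre A B' p
  exact invertible_fibre (k := p.ResidueField) (isOpenImmersion_fibre A B' B p hopen)

end General

section FiniteFree

open QFDual
attribute [local instance] Algebra.TensorProduct.rightAlgebra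

variable {A B : Type u} [CommRing A] [CommRing B] [Algebra A B]

theorem isOpenImmersion_id : IsOpenImmersion (Spec.map (CommRingCat.ofHom (algebraMap B B))) := by
  have : IsIso (Spec.map (CommRingCat.ofHom (algebraMap B B))) := by
    have h : CommRingCat.ofHom (algebraMap B B) = 𝟙 (CommRingCat.of B) := rfl
    rw [h]
    infer_instance
  infer_instance

/-- **S2217**. -/
theorem invertible_omega_iff_gorenstein_fibres [IsNoetherianRing A] [Module.Finite A B]
    [Module.Free A B] :
    (∀ (p : Ideal A) [p.IsPrime], LocCoh.IsGorensteinRing (p.Fiber B)) ↔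
      Module.Invertible B (Disc.Omega A B) := by
  haveI : IsNoetherianRing B := IsNoetherianRing.of_finite A B
  haveI : Module.FinitePresentation A B := Module.finitePresentation_of_finite A B
  constructor
  · intro hG
    haveI : Module.Invertible B (omega A B B) :=
      invertible_omega_of_gorenstein_fibres (isOpenImmersion_id (B := B)) (fun p _ =>
        isGorensteinRing_of_ringEquiv
          (Algebra.TensorProduct.comm A p.ResidueField B).toRingEquiv (hG p))
    exact Module.Invertible.congr (TensorProduct.lid B (Disc.Omega A B))
  · intro hinv p _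
    haveI : Module.Invertible B (omega A B B) :=
      Module.Invertible.congr (TensorProduct.lid B (Disc.Omega A B)).symm
    haveI : Module.Invertible (p.ResidueField ⊗[A] B)
        (omega p.ResidueField (p.ResidueField ⊗[A] B) (p.ResidueField ⊗[A] B)) :=
      invertible_fibre_of_invertible (A := A) (B' := B) (B := B) (A₁ := p.ResidueField)
        (B'₁ := p.ResidueField ⊗[A] B) (B₁ := p.ResidueField ⊗[A] B)
        (isOpenImmersion_id (B := B)) TensorProduct.isPushout
    haveI : Module.Invertible (p.ResidueField ⊗[A] B)
        (Disc.Omega p.ResidueField (p.ResidueField ⊗[A] B)) :=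
      Module.Invertible.congr (TensorProduct.lid (p.ResidueField ⊗[A] B) _)
    exact gorenstein_of_invertible_omega (k := p.ResidueField)

end FiniteFree

end Groth.Agent.H8.QFD
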